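import Mathlib
import Cfsg.Agent.Lib.Core.CoprimeAbelian
import Cfsg.Agent.Lib.Core.Fitting
import Cfsg.Agent.Lib.LocEven.CharP
import Cfsg.Agent.Lib.PGroup.Basic

/-!
Klinger-Mason, part A: small lemmas on elementary abelian `p`-groups and involutions acting on `p`-groups.
-/

set_option autoImplicit false

namespace H71KM

open Cfsg Subgroup
open scoped commutatorElement

scoped notation:max "𝐂(" A ")" => Subgroup.centralizer (SetLike.coe A)
scoped notation:max "𝐍(" A ")" => Subgroup.normalizer (SetLike.coe A)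

variable {G : Type*} [Group G] {p : ℕ}

/-- commutative of exponent dividing `p` -/
def EA (p : ℕ) (B : Subgroup G) : Prop := IsMulCommutative B ∧ ∀ b ∈ B, b ^ p = 1

theorem comm_iff {V : Subgroup G} : IsMulCommutative V ↔ V ≤ 𝐂(V) :=
  H2.isMulCommutative_iff_commutator_eq_bot.trans commutator_eq_bot_iff_le_centralizer

theorem mc {x y : G} : x ∈ centralizer ({y} : Set G) ↔ x * y = y * x := mem_centralizer_singleton_iff

theorem mc_symm {x y : G} (h : x ∈ centralizer ({y} : Set G)) : y ∈ centralizer ({x} : Set G) :=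
  mc.2 (mc.1 h).symm

theorem conj_of_mc {x y : G} (h : x ∈ centralizer ({y} : Set G)) : x * y * x⁻¹ = y := by
  rw [mc.1 h, mul_inv_cancel_right]

theorem mc_of_conj {x y : G} (h : x * y * x⁻¹ = y) : x ∈ centralizer ({y} : Set G) :=
  mc.2 (mul_inv_eq_iff_eq_mul.1 h)

theorem mc_of_mem {D : Subgroup G} {x d : G} (hx : x ∈ 𝐂(D)) (hd : d ∈ D) : x ∈ centralizer ({d} : Set G) :=
  mc.2 (hx d hd).symm

theorem EA.le_cent {B : Subgroup G} (h : EA p B) : B ≤ 𝐂(B) := comm_iff.1 h.1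

theorem EA.isPGroup {B : Subgroup G} (h : EA p B) : IsPGroup p B :=
  H70.isPGroup_iff_mem.2 fun x hx => ⟨1, by rw [pow_one, h.2 x hx]⟩

theorem EA.mono {B D : Subgroup G} (h : EA p B) (hD : D ≤ B) : EA p D :=
  ⟨comm_iff.2 (hD.trans (h.le_cent.trans (centralizer_le hD))), fun b hb => h.2 b (hD hb)⟩

theorem EA.sup [Finite G] {D : Subgroup G} (h : EA p D) {x : G} (hx : x ∈ 𝐂(D)) (hxp : x ^ p = 1) :
    EA p (D ⊔ zpowers x) := by
  refine ⟨H5.isMulCommutative_sup_zpowers h.1 hx, fun g hg => ?_⟩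
  obtain ⟨k, hk, i, rfl⟩ := (H5.mem_sup_zpowers_iff_nat (centralizer_le_normalizer _ hx)).1 hg
  rw [Commute.mul_pow (Commute.pow_right (hx k hk) i), h.2 k hk, ← pow_mul, mul_comm i, pow_mul, hxp, one_pow,
    one_mul]

theorem card_sup [hp : Fact p.Prime] {D : Subgroup G} {x : G} (hx : x ∈ 𝐂(D)) (hxp : x ^ p = 1) (hxD : x ∉ D) :
    Nat.card (D ⊔ zpowers x : Subgroup G) = Nat.card D * p :=
  H5.card_sup_zpowers hp.out (centralizer_le_normalizer _ hx) hxD (hxp ▸ one_mem D)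

theorem eq_of_sq_eq [hp : Fact p.Prime] (hp2 : p ≠ 2) {x y : G} (hx : x ^ p = 1) (hy : y ^ p = 1)
    (h : x * x = y * y) : x = y := by
  obtain ⟨k, hk⟩ := hp.out.odd_of_ne_two hp2
  have e : ∀ z : G, z ^ p = 1 → z = (z * z) ^ (k + 1) := fun z hz => by
    rw [← pow_two, ← pow_mul, show 2 * (k + 1) = p + 1 by omega, pow_succ, hz, one_mul]
  rw [e x hx, h, ← e y hy]

theorem ne_inv [Fact p.Prime] (hp2 : p ≠ 2) {x : G} (hx : x ^ p = 1) (h1 : x ≠ 1) : x ≠ x⁻¹ := fun h =>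
  h1 (eq_of_sq_eq hp2 hx (one_pow p) (by rw [one_mul]; exact eq_inv_iff_mul_eq_one.1 h))

theorem exists_inverted {P : Subgroup G} (hP : IsPGroup p P) {a : G} (ha : a * a = 1) (haP : a ∈ 𝐍(P))
    (h : ¬ P ≤ centralizer {a}) : ∃ x ∈ P, x ≠ 1 ∧ x ^ p = 1 ∧ a * x * a⁻¹ = x⁻¹ := by
  obtain ⟨n, hn, hna⟩ := SetLike.not_le_iff_exists.1 h
  have hm : n⁻¹ * (a * n * a⁻¹) ∈ P := mul_mem (inv_mem hn) ((mem_normalizer_iff.1 haP n).1 hn)
  have h1 : n⁻¹ * (a * n * a⁻¹) ∉ (⊥ : Subgroup G) := fun h1 =>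
    hna (mc_symm (mc_of_conj (inv_mul_eq_one.1 (mem_bot.1 h1)).symm))
  have hi : a⁻¹ = a := inv_eq_of_mul_eq_one_right ha
  have e : a * (n⁻¹ * (a * n * a⁻¹)) * a⁻¹ = (n⁻¹ * (a * n * a⁻¹))⁻¹ := by
    rw [mul_inv_rev, inv_inv, hi]
    calc a * (n⁻¹ * (a * n * a)) * a = a * n⁻¹ * a * n * (a * a) := by group
      _ = a⁻¹ * n⁻¹ * a⁻¹ * n := by rw [ha, hi, mul_one]
      _ = _ := by group
  obtain ⟨k, hk⟩ := H70.isPGroup_iff_mem.1 hP _ hm
  obtain ⟨j, h2, h3⟩ := H5.exists_pow_not_mem_pow_mem h1 (k := k) (p := p) (hk ▸ one_mem _)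
  exact ⟨_, pow_mem hm _, fun h => h2 (mem_bot.2 h), mem_bot.1 h3, by rw [← conj_pow, e, inv_pow]⟩

theorem comm_of_fix [Fact p.Prime] (hp2 : p ≠ 2) {N : Subgroup G} {x x' c : G} (hx : x ∈ N) (hx' : x' ∈ N)
    (hp' : x' ^ p = 1) (hc : ⁅N, N⁆ ≤ centralizer {c}) (h1 : c * x * c⁻¹ = x) (h2 : c * x' * c⁻¹ = x'⁻¹) :
    x * x' = x' * x := by
  have h3 := conj_of_mc (mc_symm (hc (commutator_mem_commutator hx hx')))
  have h4 : c * ⁅x, x'⁆ * c⁻¹ = ⁅x, x'⁻¹⁆ := by rw [conjugate_commutatorElement, h1, h2]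
  rw [h3, commutatorElement_def, commutatorElement_def, inv_inv] at h4
  have h5 : x * x' * x⁻¹ = x' := by
    refine eq_of_sq_eq hp2 (by rw [conj_pow, hp', mul_one, mul_inv_cancel]) hp' ?_
    calc x * x' * x⁻¹ * (x * x' * x⁻¹) = x * x' * x⁻¹ * (x * x' * x⁻¹ * x'⁻¹) * x' := by group
      _ = x' * x' := by rw [h4]; group
  exact mul_inv_eq_iff_eq_mul.1 h5

theorem exists_section [Finite G] [Fact p.Prime] {P M : Subgroup G} (hP : IsPGroup p P) (h : ¬ P ≤ M) :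
    ∃ N ≤ P, 𝐍(P) ≤ 𝐍(N) ∧ ¬ N ≤ M ∧ ⁅N, N⁆ ≤ M := by
  obtain ⟨N, ⟨h1, h2, h3⟩, hmin⟩ := (wellFounded_lt (α := Subgroup G)).has_min
    {N : Subgroup G | N ≤ P ∧ 𝐍(P) ≤ 𝐍(N) ∧ ¬ N ≤ M} ⟨P, le_rfl, le_rfl, h⟩
  refine ⟨N, h1, h2, h3, by_contra fun h4 => ?_⟩
  have hlt := H1.commutator_self_lt_of_isSolvable (H1.isSolvable_of_isPGroup (hP.to_le h1))
    (N := N) (by rintro rfl; exact h3 bot_le)
  exact hmin _ ⟨hlt.le.trans h1, H2.le_normalizer_commutator h2 h2, h4⟩ hlt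

theorem not_mem_of_inverted [Fact p.Prime] (hp2 : p ≠ 2) {D : Subgroup G} {x s : G} (hs : s ∈ 𝐂(D))
    (hx : x ^ p = 1) (h1 : x ≠ 1) (h : s * x * s⁻¹ = x⁻¹) : x ∉ D := fun hD =>
  ne_inv hp2 hx h1 ((conj_of_mc (mc_of_mem hs hD)).symm.trans h)

theorem mem_cent_sup {D : Subgroup G} {x s : G} (hs : s ∈ 𝐂(D)) (h : s ∈ centralizer ({x} : Set G)) :
    s ∈ 𝐂(D ⊔ zpowers x) :=
  H70.le_centralizer_singleton_iff.1
    (sup_le (H70.le_centralizer_singleton_iff.2 hs) ((zpowers_le_of_mem (mc_symm h))))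

/-- two new commuting elements of order `p` -/
theorem two [Finite G] [Fact p.Prime] (hp2 : p ≠ 2) {D : Subgroup G} (hD : EA p D) {x x' s c : G}
    (hx : x ∈ 𝐂(D)) (hx' : x' ∈ 𝐂(D)) (hp : x ^ p = 1) (hp' : x' ^ p = 1) (h1 : x ≠ 1) (h1' : x' ≠ 1)
    (hc : x * x' = x' * x) (hs : s ∈ 𝐂(D)) (hcD : c ∈ 𝐂(D)) (e1 : s * x * s⁻¹ = x⁻¹) (e2 : c * x * c⁻¹ = x)
    (e3 : c * x' * c⁻¹ = x'⁻¹) :
    EA p (D ⊔ zpowers x ⊔ zpowers x') ∧
      Nat.card (D ⊔ zpowers x ⊔ zpowers x' : Subgroup G) = Nat.card D * p * p := by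
  have h2 := mem_cent_sup hx' (mc.2 hc.symm)
  exact ⟨(hD.sup hx hp).sup h2 hp', by
    rw [card_sup h2 hp' (not_mem_of_inverted hp2 (mem_cent_sup hcD (mc_of_conj e2)) hp' h1' e3),
      card_sup hx hp (not_mem_of_inverted hp2 hs hp h1 e1)]⟩

theorem relIndex_le [Finite G] [hp : Fact p.Prime] {B D : Subgroup G} (hB : EA p B) (hD : D ≤ B)
    (h : ∃ a ∈ B, D ⊔ zpowers a = B) : D.relIndex B ≤ p := by
  obtain ⟨a, ha, rfl⟩ := h
  by_cases haD : a ∈ D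
  · rw [sup_eq_left.2 (zpowers_le_of_mem haD), relIndex_self]; exact hp.out.one_le
  · exact (H5.relIndex_sup_zpowers hp.out (centralizer_le_normalizer _ (centralizer_le hD (hB.le_cent ha))) haD
      (hB.2 a ha ▸ one_mem D)).le

theorem card_le [Finite G] [Fact p.Prime] {B D : Subgroup G} (hB : EA p B) (hD : D ≤ B)
    (h : ∃ a ∈ B, D ⊔ zpowers a = B) : Nat.card B ≤ Nat.card D * p := by
  rw [← H1.card_mul_relIndex_of_le hD]
  exact Nat.mul_le_mul_left _ (relIndex_le hB hD h)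

theorem card_le2 [Finite G] [Fact p.Prime] {B D D' : Subgroup G} (hB : EA p B) (hD : D ≤ B) (hD' : D' ≤ B)
    (h : ∃ a ∈ B, D ⊔ zpowers a = B) (h' : ∃ a ∈ B, D' ⊔ zpowers a = B) :
    Nat.card B ≤ Nat.card (D ⊓ D' : Subgroup G) * p * p := by
  rw [← H1.card_mul_relIndex_of_le (inf_le_left.trans hD : D ⊓ D' ≤ B), mul_assoc]
  exact Nat.mul_le_mul_left _ (relIndex_inf_le.trans (Nat.mul_le_mul (relIndex_le hB hD h) (relIndex_le hB hD' h')))

theorem mem_zp {t x : G} (ht : t * t = 1) : x ∈ zpowers t ↔ x = 1 ∨ x = t := by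
  refine ⟨fun ⟨k, hk⟩ => ?_, fun h => h.elim (fun h => h ▸ one_mem _) fun h => h ▸ mem_zpowers _⟩
  have e : ∀ m : ℤ, t ^ (2 * m) = 1 := fun m => by rw [zpow_mul, zpow_two, ht, one_zpow]
  obtain ⟨m, rfl | rfl⟩ := Int.even_or_odd' k
  · exact Or.inl (hk.symm.trans (e m))
  · exact Or.inr (hk.symm.trans (by simp only; rw [zpow_add_one, e, one_mul]))

theorem cop [Finite G] {q : ℕ} [Fact p.Prime] [Fact q.Prime] (h : p ≠ q) {A K : Subgroup G} (hA : IsPGroup p A)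
    (hK : IsPGroup q K) : (Nat.card A).Coprime (Nat.card K) :=
  IsPGroup.coprime_card_of_ne p q h A K hA hK

theorem eq_one_of_mem [Finite G] {q : ℕ} [Fact p.Prime] [Fact q.Prime] (h : p ≠ q) {A K : Subgroup G}
    (hA : IsPGroup p A) (hK : IsPGroup q K) {g : G} (h1 : g ∈ A) (h2 : g ∈ K) : g = 1 :=
  H2.eq_one_of_mem_of_coprime (cop h hA hK) h1 h2

theorem isPGroup_zp {t : G} (ht : t * t = 1) : IsPGroup 2 (zpowers t) :=
  H70.isPGroup_zpowers (k := 1) (by rw [pow_one, pow_two, ht])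

theorem ea_zp [Finite G] {a : G} (ha : a * a = 1) : EA 2 (zpowers a) := by
  simpa using EA.sup (p := 2) (D := ⊥) ⟨inferInstance, fun b hb => by rw [mem_bot.1 hb, one_pow]⟩ (x := a)
    (fun d hd => by rw [mem_bot.1 hd, one_mul, mul_one]) (by rw [pow_two, ha])

theorem le_of_four [Finite G] [Fact p.Prime] (hp2 : p ≠ 2) {a b : G} (ha : a * a = 1) (hb : b * b = 1)
    (ha1 : a ≠ 1) (hb1 : b ≠ 1) (hab : a * b = b * a) (hne : a ≠ b) {X M : Subgroup G} (hX : IsPGroup p X)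
    (h1 : a ∈ 𝐍(X)) (h2 : b ∈ 𝐍(X)) (h3 : X ⊓ centralizer {a} ≤ M) (h4 : X ⊓ centralizer {b} ≤ M)
    (h5 : X ⊓ centralizer {a * b} ≤ M) : X ≤ M := by
  have hc : b ∈ 𝐂(zpowers a) := by rw [H70.centralizer_zpowers]; exact mc.2 hab.symm
  have hE := (ea_zp ha).sup hc (by rw [pow_two, hb])
  refine H2.le_of_forall_centralizer_le hE.1 (fun hcyc => ?_)
    (sup_le (zpowers_le_of_mem h1) (zpowers_le_of_mem h2)) (cop hp2.symm hE.isPGroup hX) fun x hx hx1 => ?_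
  · have h4 : Nat.card (zpowers a ⊔ zpowers b : Subgroup G) = 2 * 2 := by
      rw [card_sup (p := 2) hc (by rw [pow_two, hb]) (fun h => ((mem_zp ha).1 h).elim hb1 fun h => hne h.symm),
        Nat.card_zpowers, orderOf_eq_prime (p := 2) (by rw [pow_two, ha]) ha1]
    have h6 := IsCyclic.exponent_eq_card (α := (zpowers a ⊔ zpowers b : Subgroup G))
    have h7 : Monoid.exponent (zpowers a ⊔ zpowers b : Subgroup G) ∣ 2 :=
      Monoid.exponent_dvd_of_forall_pow_eq_one fun g => Subtype.ext (hE.2 g g.2)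
    rw [h6, h4] at h7
    exact absurd h7 (by decide)
  · obtain ⟨u, hu, v, hv, rfl⟩ := (H2.mem_sup_iff_of_le_normalizer
      (zpowers_le_of_mem (centralizer_le_normalizer _ hc))).1 hx
    rcases (mem_zp ha).1 hu with rfl | rfl <;> rcases (mem_zp hb).1 hv with rfl | rfl
    · exact absurd (one_mul 1) hx1
    · rwa [one_mul]
    · rwa [mul_one]
    · exact h5

end H71KM
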