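import Mathlib
import Cfsg.Agent.Lib.KM.A

/-!
Klinger-Mason, part B: good pairs `(B, t)` and invariant abelian subgroups of `O_2(C(t))`.
-/

set_option autoImplicit false

namespace H71KM

open Cfsg Subgroup
open scoped commutatorElement

variable {G : Type*} [Group G] {p N : ℕ}

structure Hyp (p N : ℕ) (G : Type*) [Group G] : Prop where
  odd : p ≠ 2
  hp : ∀ D : Subgroup G, IsPGroup p D → D ≠ ⊥ → H70.CharP p 𝐂(D)
  h2 : ∀ t : G, t ≠ 1 → t * t = 1 → H70.CharP 2 (centralizer {t})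
  max : ∀ t : G, t ≠ 1 → t * t = 1 → ∀ B : Subgroup G, EA p B → B ≤ centralizer {t} → Nat.card B ≤ N
  big : p * p < N

structure Good (p N : ℕ) (B : Subgroup G) (t : G) : Prop where
  ea : EA p B
  ne : t ≠ 1
  sq : t * t = 1
  le : B ≤ centralizer {t}
  card : N ≤ Nat.card B

abbrev PD (p : ℕ) (D : Subgroup G) : Subgroup G := pCoreOf p 𝐂(D)
abbrev RT (t : G) : Subgroup G := pCoreOf 2 (centralizer {t})

theorem pPD (D : Subgroup G) : IsPGroup p (PD p D) := H70.isPGroup_pCoreOf _ _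
theorem pRT (t : G) : IsPGroup 2 (RT t) := H70.isPGroup_pCoreOf _ _
theorem PD_le (D : Subgroup G) : PD p D ≤ 𝐂(D) := H70.pCoreOf_le _ _
theorem RT_le (t : G) : RT t ≤ centralizer {t} := H70.pCoreOf_le _ _
theorem nPD (D : Subgroup G) : 𝐂(D) ≤ 𝐍(PD p D) := H70.le_normalizer_pCoreOf _ _
theorem nRT (t : G) : centralizer {t} ≤ 𝐍(RT t) := H70.le_normalizer_pCoreOf _ _

theorem n_zp (t : G) : centralizer {t} ≤ 𝐍(zpowers t) := by
  rw [← H70.centralizer_zpowers]; exact centralizer_le_normalizer _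

theorem mem_RT {t : G} (ht : t * t = 1) : t ∈ RT t :=
  H70.le_pCoreOf (isPGroup_zp ht) (zpowers_le_of_mem (mc.2 rfl)) (n_zp t) (mem_zpowers t)

theorem n_inf {H K : Subgroup G} {a : G} (h1 : a ∈ 𝐍(H)) (h2 : a ∈ 𝐍(K)) : a ∈ 𝐍(H ⊓ K) :=
  H2.le_normalizer_inf (zpowers_le_of_mem h1) (zpowers_le_of_mem h2) (mem_zpowers a)

theorem cj_mem {H : Subgroup G} {a x : G} (h : a ∈ 𝐍(H)) (hx : x ∈ H) : a * x * a⁻¹ ∈ H :=
  (mem_normalizer_iff.1 h x).1 hx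

theorem cj_mul (a b x : G) : a * b * x * (a * b)⁻¹ = a * (b * x * b⁻¹) * a⁻¹ := by group

theorem cj_inv {a x y : G} (h : a * x * a⁻¹ = y) : a * x⁻¹ * a⁻¹ = y⁻¹ := by rw [← h]; group

theorem cj_rev {a x y : G} (h : a * x * a⁻¹ = y) : a⁻¹ * y * a⁻¹⁻¹ = x := by rw [← h]; group

theorem cj_sq {a x : G} (h : x * x = 1) : a * x * a⁻¹ * (a * x * a⁻¹) = 1 := by
  rw [conj_mul, h, mul_one, mul_inv_cancel]

theorem cj_ne {a x : G} (h : x ≠ 1) : a * x * a⁻¹ ≠ 1 := fun e => h (by simpa using e)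

variable [Finite G] [hp : Fact p.Prime]

theorem exists_invol {X : Subgroup G} (hX : IsPGroup 2 X) (h : X ≠ ⊥) :
    ∃ z ∈ X, z ∈ 𝐂(X) ∧ z ≠ 1 ∧ z * z = 1 := by
  obtain ⟨z, hz, h1, h2⟩ := H5.exists_mem_centralizer_orderOf_eq hX le_rfl le_normalizer h
  exact ⟨z, hz, h1, fun e => by simp [e] at h2, by rw [← pow_two, ← h2, pow_orderOf_eq_one]⟩

omit [Finite G] in
theorem Hyp.not_cent (h : Hyp p N G) {D : Subgroup G} (hD : EA p D) (hD1 : D ≠ ⊥) {a : G} (ha1 : a ≠ 1)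
    (ha : a * a = 1) (haD : a ∈ 𝐂(D)) : ¬ PD p D ≤ centralizer {a} := fun hc =>
  ha1 ((h.hp D hD.isPGroup hD1).eq_one haD (by
    rw [orderOf_eq_prime (p := 2) (by rw [pow_two, ha]) ha1]
    exact (Nat.coprime_primes Nat.prime_two hp.out).2 h.odd.symm) hc)

omit [Finite G] hp in
theorem Hyp.ne_bot (h : Hyp p N G) {D : Subgroup G} (hD : N ≤ Nat.card D * p * p) : D ≠ ⊥ := by
  rintro rfl
  rw [card_bot, one_mul] at hD
  exact absurd h.big (not_lt.2 hD)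

omit [Finite G] in
theorem Hyp.ne_bot' (h : Hyp p N G) {D : Subgroup G} (hD : N ≤ Nat.card D * p) : D ≠ ⊥ :=
  h.ne_bot (hD.trans (Nat.le_mul_of_pos_right _ hp.out.pos))

theorem Hyp.comm (h : Hyp p N G) {D : Subgroup G} {t x y : G} (hy : y ∈ RT t) (hyD : y ∈ 𝐂(D))
    (hx : x ∈ PD p D) (hxt : x ∈ centralizer {t}) : y ∈ centralizer {x} := by
  refine mc.2 (commutatorElement_eq_one_iff_mul_comm.1 (eq_one_of_mem h.odd (pPD D) (pRT t) ?_ ?_))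
  · exact mul_mem (cj_mem (nPD D hyD) hx) (inv_mem hx)
  · rw [commutatorElement_def, mul_assoc, mul_assoc, ← mul_assoc x]
    exact mul_mem hy (cj_mem (nRT t hxt) (inv_mem hy))

theorem Hyp.step1 (h : Hyp p N G) {D : Subgroup G} (hD : EA p D) (hD1 : D ≠ ⊥) {a b : G} (ha1 : a ≠ 1)
    (ha : a * a = 1) (hb1 : b ≠ 1) (hb : b * b = 1) (hab : a * b = b * a) (hne : a ≠ b) (haD : a ∈ 𝐂(D))
    (hbD : b ∈ 𝐂(D)) : ∃ (v : G) (B : Subgroup G), v ≠ 1 ∧ v * v = 1 ∧ EA p B ∧ B ≤ centralizer {v} ∧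
      Nat.card B = Nat.card D * p := by
  by_contra hn
  have key : ∀ v : G, v ≠ 1 → v * v = 1 → v ∈ 𝐂(D) → a * v = v * a → PD p D ⊓ centralizer {v} ≤ centralizer {a} :=
    fun v h1 h2 h3 h4 => by_contra fun h5 => by
      obtain ⟨x, hx, x1, xp, xi⟩ := exists_inverted ((pPD D).to_le inf_le_left) ha
        (n_inf (nPD D haD) (le_normalizer (mc.2 h4))) h5
      exact hn ⟨v, _, h1, h2, hD.sup (PD_le D hx.1) xp, sup_le (H70.le_centralizer_singleton_iff.2 h3)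
        (zpowers_le_of_mem hx.2), card_sup (PD_le D hx.1) xp (not_mem_of_inverted h.odd haD xp x1 xi)⟩
  exact h.not_cent hD hD1 ha1 ha haD (le_of_four h.odd ha hb ha1 hb1 hab hne (pPD D) (nPD D haD) (nPD D hbD)
    inf_le_right (key b hb1 hb hbD hab) (key _ (fun e => hne ((eq_inv_of_mul_eq_one_left e).trans
      (inv_eq_of_mul_eq_one_right hb))) (by rw [mul_assoc, ← mul_assoc b, ← hab, mul_assoc a, hb, mul_one, ha])
      (mul_mem haD hbD) (by rw [mul_assoc, ← hab])))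

theorem Hyp.step0 (h : Hyp p N G) {B T : Subgroup G} (hB : EA p B) (hN : N ≤ Nat.card B) (hT : IsPGroup 2 T)
    (hT1 : T ≠ ⊥) (hBT : B ≤ 𝐍(T)) : ∃ (B' : Subgroup G) (t : G), Good p N B' t := by
  by_contra hn
  refine hT1 (le_bot_iff.1 (H2.le_of_forall_cocyclic hB.1 hBT (cop h.odd hB.isPGroup hT) fun D hD hc =>
    le_bot_iff.2 (by_contra fun h1 => ?_)))
  obtain ⟨z, hz, z0, z1, z2⟩ := exists_invol (hT.to_le inf_le_left) h1
  have hN' := hN.trans (card_le hB hD hc)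
  by_cases hzB : B ≤ centralizer {z}
  · exact hn ⟨B, z, hB, z1, z2, hzB, hN⟩
  obtain ⟨b, hb, hbz⟩ := SetLike.not_le_iff_exists.1 hzB
  have hz' : b * z * b⁻¹ ∈ T ⊓ 𝐂(D) :=
    cj_mem (n_inf (hBT hb) (le_normalizer (centralizer_le hD (hB.le_cent hb)))) hz
  obtain ⟨v, B', v1, v2, e1, e2, e3⟩ := h.step1 (hB.mono hD) (h.ne_bot' hN') z1 z2 (cj_ne z1) (cj_sq z2)
    (z0 _ hz').symm (fun e => hbz (mc_of_conj e.symm)) hz.2 hz'.2
  exact hn ⟨B', v, e1, v1, v2, e2, e3 ▸ hN'⟩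

variable {B : Subgroup G} {t : G}

omit [Finite G] hp in
theorem Good.tC (g : Good p N B t) : t ∈ 𝐂(B) := H70.le_centralizer_singleton_iff.1 g.le

omit [Finite G] hp in
theorem Good.nR (g : Good p N B t) : B ≤ 𝐍(RT t) := g.le.trans (nRT t)

theorem Good.uniq (g : Good p N B t) (h : Hyp p N G) {z : G} (hz : z ∈ centralizer {t}) (hzB : z ∈ 𝐂(B))
    (z2 : z * z = 1) : z ∈ zpowers t := by
  refine (mem_zp g.sq).2 (by_contra fun hn => ?_)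
  rw [not_or] at hn
  obtain ⟨v, B', v1, v2, e1, e2, e3⟩ := h.step1 g.ea (h.ne_bot' (g.card.trans (Nat.le_mul_of_pos_right _ hp.out.pos)))
    hn.1 z2 g.ne g.sq (mc.1 hz) hn.2 hzB g.tC
  have h1 := (e3 ▸ h.max v v1 v2 B' e1 e2).trans g.card
  have h2 : 0 < Nat.card B := Nat.card_pos
  have := hp.out.two_le
  nlinarith

theorem Hyp.pair (h : Hyp p N G) {D N0 Y : Subgroup G} (hD : EA p D) (hN : N ≤ Nat.card D * p)
    {t x x' c y0 : G} (hY : EA 2 (Y ⊔ zpowers t)) (hYD : Y ⊔ zpowers t ≤ 𝐂(D)) (htY : t ∉ Y) (hN0 : N0 ≤ 𝐂(D))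
    (hNY : ⁅N0, N0⁆ ≤ 𝐂(Y)) (hx : x ∈ N0) (hx' : x' ∈ N0) (xp : x ^ p = 1) (xp' : x' ^ p = 1) (x1 : x ≠ 1)
    (x1' : x' ≠ 1) (tx : t * x * t⁻¹ = x⁻¹) (tx' : t * x' * t⁻¹ = x'⁻¹) (hc : c ∈ Y) (cx : c * x * c⁻¹ = x)
    (cx' : c * x' * c⁻¹ = x'⁻¹) (hy : y0 ∈ Y) (yx : y0 * x * y0⁻¹ = x⁻¹)
    (yx' : y0 * x' * y0⁻¹ = x' ∨ y0 * x' * y0⁻¹ = x'⁻¹) : False := by
  obtain ⟨y1, h1, e1, e2⟩ : ∃ y1 ∈ Y, y1 * x * y1⁻¹ = x⁻¹ ∧ y1 * x' * y1⁻¹ = x'⁻¹ := by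
    rcases yx' with e | e
    · exact ⟨y0 * c, mul_mem hy hc, by rw [cj_mul, cx, yx], by rw [cj_mul, cx', cj_inv e]⟩
    · exact ⟨y0, hy, yx, e⟩
  have hm : y1 * t ∈ Y ⊔ zpowers t := mul_mem (mem_sup_left h1) (mem_sup_right (mem_zpowers t))
  obtain ⟨e3, e4⟩ := two h.odd hD (hN0 hx) (hN0 hx') xp xp' x1 x1'
    (comm_of_fix h.odd hx hx' xp' (hNY.trans (centralizer_le (Set.singleton_subset_iff.2 hc))) cx cx')
    (hYD (mem_sup_left h1)) (hYD (mem_sup_left hc)) e1 cx cx'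
  have e5 := h.max (y1 * t) (fun e => htY (eq_inv_of_mul_eq_one_right e ▸ inv_mem h1))
    (by rw [← pow_two, hY.2 _ hm]) _ e3 (sup_le (sup_le (H70.le_centralizer_singleton_iff.2 (hYD hm))
      (zpowers_le_of_mem (mc_symm (mc_of_conj (by rw [cj_mul, tx, cj_inv e1, inv_inv])))))
      (zpowers_le_of_mem (mc_symm (mc_of_conj (by rw [cj_mul, tx', cj_inv e2, inv_inv])))))
  have h2 : 0 < Nat.card D * p := Nat.mul_pos Nat.card_pos hp.out.pos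
  have := hp.out.two_le
  rw [e4] at e5
  nlinarith

theorem Good.s2_elem (g : Good p N B t) (h : Hyp p N G) {V : Subgroup G} (hV : V ≤ RT t) (hE : EA 2 V)
    (hB : B ≤ 𝐍(V)) : V ≤ 𝐂(B) := by
  have hco := cop h.odd g.ea.isPGroup hE.isPGroup
  refine H2.le_of_forall_cocyclic g.ea.1 hB hco fun D hD hc => by_contra fun hn => ?_
  have hN := g.card.trans (card_le g.ea hD hc)
  have hBD : B ≤ 𝐂(D) := g.ea.le_cent.trans (centralizer_le hD)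
  have hB1 : B ≤ 𝐍(V ⊓ 𝐂(D)) := H2.le_normalizer_inf hB (hBD.trans le_normalizer)
  have hco1 := H2.coprime_of_le_right hco (inf_le_left : V ⊓ 𝐂(D) ≤ V)
  have hYV := H2.commutator_le_of_le_normalizer hB1
  have hYY := H2.commutator_commutator_eq hB1 hco1
  have hYB := H2.commutator_inf_centralizer_eq_bot (hE.mono inf_le_left).1 hB1 hco1
  have hBY := normalizer_commutator_ge_right (V ⊓ 𝐂(D)) B
  have hY1 : ⁅V ⊓ 𝐂(D), B⁆ ≠ ⊥ := fun e => hn (commutator_eq_bot_iff_le_centralizer.1 e)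
  generalize ⁅V ⊓ 𝐂(D), B⁆ = Y at hYV hYY hYB hBY hY1
  have hYR : Y ≤ RT t := hYV.trans (inf_le_left.trans hV)
  have hEY : EA 2 Y := hE.mono (hYV.trans inf_le_left)
  have htY : t ∉ Y := fun e => g.ne (mem_bot.1 (hYB ▸ (⟨e, g.tC⟩ : t ∈ Y ⊓ 𝐂(B))))
  have hT : EA 2 (Y ⊔ zpowers t) :=
    hEY.sup (H70.le_centralizer_singleton_iff.1 (hYR.trans (RT_le t))) (by rw [pow_two, g.sq])
  have hTD : Y ⊔ zpowers t ≤ 𝐂(D) :=
    sup_le (hYV.trans inf_le_right) (zpowers_le_of_mem (centralizer_le hD g.tC))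
  have hBT : B ≤ 𝐍(Y ⊔ zpowers t) := H2.le_normalizer_sup hBY (g.le.trans (n_zp t))
  obtain ⟨y, hy, y1⟩ := (ne_bot_iff_exists_ne_one).1 hY1 |>.elim fun y h => (⟨y, y.2, fun e => h (Subtype.ext e)⟩ :
    ∃ y ∈ Y, y ≠ 1)
  obtain ⟨N0, hN0, nN0, h1, h2⟩ := exists_section (pPD D) (M := 𝐂(Y)) fun e =>
    h.not_cent (g.ea.mono hD) (h.ne_bot' hN) y1 (by rw [← pow_two, hEY.2 y hy]) (hYV hy).2
      (e.trans (centralizer_le (Set.singleton_subset_iff.2 hy)))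
  have nN : 𝐂(D) ≤ 𝐍(N0) := (nPD D).trans nN0
  have pN0 : IsPGroup p N0 := (pPD D).to_le hN0
  refine h1 (H2.le_of_forall_cocyclic hT.1 (hTD.trans nN) (cop h.odd.symm hT.isPGroup pN0)
    fun T0 hT0 ⟨a, ha, haT⟩ => by_contra fun h3 => ?_)
  obtain ⟨y0, hy0, h4⟩ : ∃ y0 ∈ Y, ¬ N0 ⊓ 𝐂(T0) ≤ centralizer {y0} := by
    by_contra! h4
    exact h3 fun x hx y0 hy0 => (mc.1 (h4 y0 hy0 hx)).symm
  obtain ⟨x, hx, x1, xp, yx⟩ := exists_inverted (pN0.to_le inf_le_left) (by rw [← pow_two, hEY.2 y0 hy0])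
    (n_inf (nN (hYV hy0).2) (le_normalizer (centralizer_le hT0 (hT.le_cent (mem_sup_left hy0))))) h4
  have xne := ne_inv h.odd xp x1
  have split : ∀ s ∈ Y ⊔ zpowers t, s * x * s⁻¹ = x ∨ s * x * s⁻¹ = a * x * a⁻¹ := fun s hs => by
    obtain ⟨v, hv, k, hk, rfl⟩ := (H2.mem_sup_iff_of_le_normalizer' (K := zpowers a) (A := T0)
      (hT0.trans (hT.le_cent.trans ((centralizer_le (zpowers_le_of_mem ha)).trans
        (centralizer_le_normalizer _))))).1 (haT.symm ▸ hs)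
    have hv' : v * x * v⁻¹ = x := conj_of_mc (mc_symm (mc_of_mem hx.2 hv))
    have hva : v * a = a * v := (hT.le_cent (hT0 hv) a ha).symm
    rcases (mem_zp (by rw [← pow_two, hT.2 a ha])).1 hk with rfl | rfl
    · exact Or.inl (by rw [mul_one, hv'])
    · exact Or.inr (by rw [hva, cj_mul, hv'])
  have dich : ∀ s ∈ Y ⊔ zpowers t, s * x * s⁻¹ = x ∨ s * x * s⁻¹ = x⁻¹ := fun s hs =>
    (split s hs).imp_right fun e => e.trans (((split y0 (mem_sup_left hy0)).resolve_left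
      fun e' => xne (e'.symm.trans yx)).symm.trans yx)
  have tx : t * x * t⁻¹ = x⁻¹ := (dich t (mem_sup_right (mem_zpowers t))).resolve_left fun e =>
    xne ((conj_of_mc (h.comm (hYR hy0) (hYV hy0).2 (hN0 hx.1) (mc_symm (mc_of_conj e)))).symm.trans yx)
  obtain ⟨c, hc, β, hβ, h5⟩ : ∃ c ∈ Y, ∃ β ∈ B, ⁅c, β⁆ ∉ centralizer ({x} : Set G) := by
    by_contra! h5
    exact xne ((conj_of_mc (commutator_le.2 h5 (hYY.symm ▸ hy0))).symm.trans yx)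
  have tr : ∀ s w : G, β * s * β⁻¹ * x * (β * s * β⁻¹)⁻¹ = w →
      s * (β⁻¹ * x * β⁻¹⁻¹) * s⁻¹ = β⁻¹ * w * β⁻¹⁻¹ := fun s w e => by rw [← e]; group
  have ti : β⁻¹ * x⁻¹ * β⁻¹⁻¹ = (β⁻¹ * x * β⁻¹⁻¹)⁻¹ := cj_inv rfl
  have hx' : β⁻¹ * x * β⁻¹⁻¹ ∈ N0 := cj_mem (nN (hBD (inv_mem hβ))) hx.1
  have xp' : (β⁻¹ * x * β⁻¹⁻¹) ^ p = 1 := by rw [conj_pow, xp, mul_one, mul_inv_cancel]
  have tx' := (tr t _ (by rw [conj_of_mc (g.le hβ), tx])).trans ti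
  have P := fun {x x' c y0} => h.pair (x := x) (x' := x') (c := c) (y0 := y0) (g.ea.mono hD) hN hT hTD htY
    (hN0.trans (PD_le D)) h2
  have e6 : ⁅c, β⁆ = c * (β * c * β⁻¹)⁻¹ := by rw [commutatorElement_def]; group
  rcases dich c (mem_sup_left hc) with e1 | e1 <;>
    rcases dich _ (mem_sup_left (cj_mem (hBY hβ) hc)) with e2 | e2
  · exact h5 (e6 ▸ mul_mem (mc_of_conj e1) (inv_mem (mc_of_conj e2)))
  · exact P hx.1 hx' xp xp' x1 (cj_ne x1) tx tx' hc e1 ((tr c _ e2).trans ti) hy0 yx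
      ((dich _ (mem_sup_left (cj_mem (hBY hβ) hy0))).imp (tr y0 _) fun e => (tr y0 _ e).trans ti)
  · exact P hx' hx.1 xp' xp (cj_ne x1) x1 tx' tx hc (tr c _ e2) e1 (cj_mem (hBY (inv_mem hβ)) hy0)
      ((tr _ _ (by rw [← yx]; group)).trans ti) (dich _ (mem_sup_left (cj_mem (hBY (inv_mem hβ)) hy0)))
  · refine h5 (mc_of_conj ?_)
    rw [e6, cj_mul, cj_rev ((cj_inv e2).trans (inv_inv x)), cj_inv e1, inv_inv]

/-- elements of order at most 2 of a commutative subgroup -/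
def omega (V : Subgroup G) (hV : V ≤ 𝐂(V)) : Subgroup G where
  carrier := {v | v ∈ V ∧ v * v = 1}
  one_mem' := ⟨one_mem V, one_mul 1⟩
  mul_mem' := fun {a b} ha hb => ⟨mul_mem ha.1 hb.1, by
    rw [mul_assoc, ← mul_assoc b, hV ha.1 b hb.1, mul_assoc a, hb.2, mul_one, ha.2]⟩
  inv_mem' := fun {a} ha => ⟨inv_mem ha.1, by rw [← mul_inv_rev, ha.2, inv_one]⟩

theorem Good.s2 (g : Good p N B t) (h : Hyp p N G) {V : Subgroup G} (hV : V ≤ RT t) (hc : V ≤ 𝐂(V))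
    (hB : B ≤ 𝐍(V)) : V ≤ 𝐂(B) := by
  have pV := (pRT t).to_le hV
  refine le_centralizer_iff.1 (H2.le_centralizer_of_prime_order (comm_iff.2 hc) hB (cop h.odd g.ea.isPGroup pV)
    fun v hv ho => g.s2_elem h (V := omega V hc) (fun x hx => hV hx.1)
      ⟨comm_iff.2 fun x hx y hy => hc hx.1 y hy.1, fun x hx => by rw [pow_two, hx.2]⟩
      (le_normalizer_iff.2 fun b hb x hx => ⟨cj_mem (hB hb) hx.1, cj_sq hx.2⟩) ⟨hv, ?_⟩)
  obtain ⟨k, hk⟩ := H70.isPGroup_iff_mem.1 pV v hv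
  rw [← pow_two, ← (Nat.prime_dvd_prime_iff_eq ho Nat.prime_two).1
    (ho.dvd_of_dvd_pow (orderOf_dvd_of_pow_eq_one hk)), pow_orderOf_eq_one]

end H71KM
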