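import Mathlib
import Cfsg.Agent.Lib.KM.B

/-!
Klinger-Mason, part C: for a good pair `(B, t)` the group `E = [O_2(C(t)), B]` is extraspecial.
-/

set_option autoImplicit false

namespace H71KM

open Cfsg Subgroup
open scoped commutatorElement

variable {G : Type*} [Group G] {p N : ℕ}

abbrev EE (B : Subgroup G) (t : G) : Subgroup G := ⁅RT t, B⁆

theorem comm_sq {x g : G} (h : x * ⁅x, g⁆ = ⁅x, g⁆ * x) : ⁅x * x, g⁆ = ⁅x, g⁆ * ⁅x, g⁆ := by
  calc ⁅x * x, g⁆ = x * ⁅x, g⁆ * x⁻¹ * ⁅x, g⁆ := by simp only [commutatorElement_def]; group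
    _ = _ := by rw [h, mul_inv_cancel_right]

theorem zp_le_cent {t : G} {H : Subgroup G} (h : H ≤ centralizer {t}) : zpowers t ≤ 𝐂(H) :=
  zpowers_le_of_mem (H70.le_centralizer_singleton_iff.1 h)

theorem comm_bot {t : G} {A H : Subgroup G} (hA : A ≤ zpowers t) (h : H ≤ centralizer {t}) : ⁅A, H⁆ = ⊥ :=
  commutator_eq_bot_iff_le_centralizer.2 (hA.trans (zp_le_cent h))

theorem sq_of_zp {t s : G} (ht : t * t = 1) (h : s ∈ zpowers t) : s * s = 1 := by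
  rcases (mem_zp ht).1 h with rfl | rfl
  exacts [one_mul 1, ht]

variable [Finite G] [hp : Fact p.Prime] {B : Subgroup G} {t : G}

omit hp in
theorem n_rel {A H : Subgroup G} (hH : A ≤ 𝐍(H)) (ht : A ≤ centralizer {t}) :
    A ≤ 𝐍(H2.relCentralizer H (zpowers t)) :=
  le_normalizer_iff.2 fun a ha x hx => ⟨mul_mem (mul_mem (n_zp t (ht ha)) hx.1) (inv_mem (n_zp t (ht ha))),
    fun z hz => by
      have := cj_mem (n_zp t (ht ha)) (hx.2 _ (cj_mem (hH (inv_mem ha)) hz))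
      rwa [conjugate_commutatorElement, show a * (a⁻¹ * z * a⁻¹⁻¹) * a⁻¹ = z by group] at this⟩

omit [Finite G] hp in
theorem Good.E_le (g : Good p N B t) : EE B t ≤ RT t := H2.commutator_le_of_le_normalizer g.nR

omit [Finite G] hp in
theorem Good.E_t (g : Good p N B t) : EE B t ≤ centralizer {t} := g.E_le.trans (RT_le t)

omit [Finite G] hp in
theorem nE {A : Subgroup G} (h1 : A ≤ 𝐍(B)) (h2 : A ≤ centralizer {t}) : A ≤ 𝐍(EE B t) :=
  H2.le_normalizer_commutator (h2.trans (nRT t)) h1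

omit [Finite G] hp in
theorem nE_B : B ≤ 𝐍(EE B t) := normalizer_commutator_ge_right _ _

omit [Finite G] hp in
theorem nE_R : RT t ≤ 𝐍(EE B t) := normalizer_commutator_ge_left _ _

theorem Good.cop (g : Good p N B t) (h : Hyp p N G) {D X : Subgroup G} (hD : D ≤ B) (hX : X ≤ RT t) :
    (Nat.card D).Coprime (Nat.card X) := H71KM.cop h.odd (g.ea.mono hD).isPGroup ((pRT t).to_le hX)

theorem Good.E_eq (g : Good p N B t) (h : Hyp p N G) : ⁅EE B t, B⁆ = EE B t :=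
  H2.commutator_commutator_eq g.nR (g.cop h le_rfl le_rfl)

theorem Good.faith (g : Good p N B t) (h : Hyp p N G) {b : G} (hb : b ∈ B) (hc : EE B t ≤ centralizer {b}) :
    b = 1 := by
  have h1 := H2.le_centralizer_of_commutator_le (A := zpowers b) (K := RT t) (N := EE B t)
    (g.cop h (zpowers_le_of_mem hb) g.E_le) (commutator_mono le_rfl (zpowers_le_of_mem hb)) (zp_le_cent hc)
  exact eq_one_of_mem h.odd g.ea.isPGroup (pRT t) hb (h.h2 t g.ne g.sq ⟨g.le hb, h1 (mem_zpowers b)⟩)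

theorem Good.lemK (g : Good p N B t) (h : Hyp p N G) {H : Subgroup G} (h1 : EE B t ≤ H) (h2 : H ≤ RT t)
    (h3 : B ≤ 𝐍(H)) (hs : ∀ x ∈ EE B t, x * x ∈ 𝐂(EE B t) → ∀ y ∈ H, ⁅x, y⁆ ∈ EE B t ⊓ 𝐂(EE B t) →
      ⁅x, y⁆ ∈ zpowers t) : ⁅EE B t, H⁆ ≤ 𝐂(EE B t) ∧ ∀ x ∈ EE B t, x * x ∈ 𝐂(EE B t) := by
  have hHt := h2.trans (RT_le t)
  have hHE : H ≤ 𝐍(EE B t) := h2.trans nE_R
  obtain ⟨W, hW⟩ : ∃ W, W = EE B t ⊓ H2.relCentralizer H (zpowers t) := ⟨_, rfl⟩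
  have hWE : W ≤ EE B t := hW ▸ inf_le_left
  have hWH : ⁅W, H⁆ ≤ zpowers t := (H2.le_relCentralizer_iff.1 (hW ▸ inf_le_right)).2
  have nH : H ≤ 𝐍(W) := hW ▸ H2.le_normalizer_inf hHE (n_rel le_normalizer hHt)
  have nB : B ≤ 𝐍(W) := hW ▸ H2.le_normalizer_inf nE_B (n_rel h3 g.le)
  have hK : W ⊓ 𝐂(W) ≤ 𝐂(EE B t) := by
    refine le_centralizer_iff.1 (g.E_eq h ▸ H2.commutator_le_centralizer_of_normalizes
      (h1.trans (H2.le_normalizer_inf nH (H2.le_normalizer_centralizer nH))) (le_centralizer_iff.1 ?_))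
    exact g.s2 h (inf_le_left.trans (hWE.trans g.E_le)) (inf_le_right.trans (centralizer_le inf_le_left))
      (H2.le_normalizer_inf nB (H2.le_normalizer_centralizer nB))
  have hM : EE B t ⊓ 𝐂(W) ≤ EE B t ⊓ 𝐂(EE B t) := by
    by_contra hn
    obtain ⟨x, hx, x1, x2, x3⟩ := H5.exists_step_of_le ((pRT t).to_le h2) _ (inf_le_left.trans h1)
      (H2.le_normalizer_inf hHE (H2.le_normalizer_centralizer nH)) hn
    exact x1 ⟨hx.1, hK ⟨hW ▸ ⟨hx.1, n_zp t (g.E_t hx.1), fun y hy => hs x hx.1 (pow_two x ▸ x2.2) y hy (x3 y hy)⟩,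
      hx.2⟩⟩
  refine ⟨(le_inf (H2.commutator_le_of_le_normalizer hHE) (commutator_eq_bot_iff_le_centralizer.1
    (commutator_commutator_eq_bot_of_rotate (comm_bot (commutator_comm W H ▸ hWH) g.E_t)
      (comm_bot ((commutator_mono le_rfl h1).trans hWH) hHt)))).trans (hM.trans inf_le_right),
    fun x hx => (hM ⟨mul_mem hx hx, fun w hw => ?_⟩).2⟩
  have e : ⁅x, w⁆ ∈ zpowers t := commutator_comm W H ▸ hWH <| commutator_mem_commutator (h1 hx) hw
  refine (commutatorElement_eq_one_iff_mul_comm.1 ?_).symm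
  rw [comm_sq (zp_le_cent g.E_t e x hx), sq_of_zp g.sq e]

theorem Good.Z_B (g : Good p N B t) (h : Hyp p N G) : EE B t ⊓ 𝐂(EE B t) ≤ 𝐂(B) :=
  g.s2 h (inf_le_left.trans g.E_le) (inf_le_right.trans (centralizer_le inf_le_left))
    (H2.le_normalizer_inf nE_B (H2.le_normalizer_centralizer nE_B))

theorem Good.EE_le (g : Good p N B t) (h : Hyp p N G) :
    ⁅EE B t, EE B t⁆ ≤ zpowers t ∧ ∀ x ∈ EE B t, x * x ∈ 𝐂(EE B t) := by
  have hs : ∀ x ∈ EE B t, x * x ∈ 𝐂(EE B t) → ∀ y ∈ EE B t, ⁅x, y⁆ ∈ EE B t ⊓ 𝐂(EE B t) →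
      ⁅x, y⁆ ∈ zpowers t := fun x hx x2 y hy e => g.uniq h (g.E_t e.1) (g.Z_B h e) (by
    rw [← comm_sq (e.2 x hx)]
    exact commutatorElement_eq_one_iff_mul_comm.2 (x2 y hy).symm)
  obtain ⟨h1, h2⟩ := g.lemK h le_rfl g.E_le nE_B hs
  exact ⟨commutator_le.2 fun x hx y hy => hs x hx (h2 x hx) y hy
    ⟨commutator_le_self _ (commutator_mem_commutator hx hy), h1 (commutator_mem_commutator hx hy)⟩, h2⟩

theorem Good.CB_le (g : Good p N B t) (h : Hyp p N G) : EE B t ⊓ 𝐂(B) ≤ zpowers t :=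
  (H2.inf_centralizer_le_commutator nE_B (g.cop h le_rfl g.E_le) (g.E_eq h).ge).trans (g.EE_le h).1

theorem Good.Z_le (g : Good p N B t) (h : Hyp p N G) : EE B t ⊓ 𝐂(EE B t) ≤ zpowers t :=
  (le_inf inf_le_left (g.Z_B h)).trans (g.CB_le h)

theorem Good.sq_mem (g : Good p N B t) (h : Hyp p N G) {x : G} (hx : x ∈ EE B t) : x * x ∈ zpowers t :=
  g.Z_le h ⟨mul_mem hx hx, (g.EE_le h).2 x hx⟩

theorem Good.ER_le (g : Good p N B t) (h : Hyp p N G) : ⁅EE B t, RT t⁆ ≤ zpowers t :=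
  (le_inf (H2.commutator_le_of_le_normalizer nE_R)
    (g.lemK h g.E_le le_rfl g.nR fun _ _ _ _ _ e => g.Z_le h e).1).trans (g.Z_le h)

theorem Good.CE_le (g : Good p N B t) (h : Hyp p N G) : RT t ⊓ 𝐂(EE B t) ≤ 𝐂(B) := by
  have n : B ≤ 𝐍(RT t ⊓ 𝐂(EE B t)) := H2.le_normalizer_inf g.nR (H2.le_normalizer_centralizer nE_B)
  exact H2.le_centralizer_of_commutator_le_centralizer n (g.cop h le_rfl inf_le_left)
    ((le_inf (commutator_mono inf_le_left le_rfl)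
      ((H2.commutator_le_of_le_normalizer n).trans inf_le_right)).trans (g.Z_B h))

end H71KM
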