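import Mathlib
import Cfsg.Agent.Lib.KM.C

/-!
Klinger-Mason, part D: a second good pair, and the contradiction.
-/

set_option autoImplicit false

namespace H71KM

open Cfsg Subgroup
open scoped commutatorElement

variable {G : Type*} [Group G] {p N : ℕ} [Finite G] [hp : Fact p.Prime] {B : Subgroup G} {t : G}

omit [Finite G] hp in
theorem cj_of_comm {a b s : G} (h : ⁅a, b⁆ = s) : a * b * a⁻¹ = s * b := by
  rw [← h, commutatorElement_def, inv_mul_cancel_right]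

theorem Good.exists_uv (g : Good p N B t) (h : Hyp p N G) {D : Subgroup G} (hD : D ≤ B)
    (hn : ¬ EE B t ⊓ 𝐂(D) ≤ 𝐂(B)) : ∃ u ∈ EE B t ⊓ 𝐂(D), ∃ v ∈ EE B t ⊓ 𝐂(D),
      u * u = t ∧ v * v = t ∧ ⁅v, u⁆ = t := by
  have nX : B ≤ 𝐍(EE B t ⊓ 𝐂(D)) :=
    H2.le_normalizer_inf nE_B (g.ea.le_cent.trans ((centralizer_le hD).trans le_normalizer))
  obtain ⟨u, hu, u2⟩ : ∃ u ∈ EE B t ⊓ 𝐂(D), u * u ≠ 1 := by
    by_contra! h1
    refine hn (g.s2 h (inf_le_left.trans g.E_le) (fun x hx y hy => ?_) nX)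
    rw [← inv_eq_of_mul_eq_one_right (h1 _ (mul_mem hy hx)), mul_inv_rev, inv_eq_of_mul_eq_one_right (h1 x hx),
      inv_eq_of_mul_eq_one_right (h1 y hy)]
  have u3 := ((mem_zp g.sq).1 (g.sq_mem h hu.1)).resolve_left u2
  obtain ⟨β, hβ, h1⟩ : ∃ β ∈ B, ⁅β * u * β⁻¹, u⁆ ≠ 1 := by
    by_contra! h1
    refine u2 (sq_of_zp g.sq (g.CB_le h ⟨hu.1, g.s2 h (V := closure {x | ∃ β ∈ B, x = β * u * β⁻¹})
      ((closure_le _).2 ?_) ((closure_le _).2 ?_) (le_normalizer_closure_iff.2 ?_)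
      (subset_closure ⟨1, one_mem _, by group⟩)⟩))
    · rintro _ ⟨β, hβ, rfl⟩
      exact g.E_le (cj_mem (nX hβ) hu).1
    · rintro _ ⟨β, hβ, rfl⟩
      rw [SetLike.mem_coe, centralizer_closure]
      rintro _ ⟨γ, hγ, rfl⟩
      refine commutatorElement_eq_one_iff_mul_comm.1 ?_
      have := congrArg (fun z => β * z * β⁻¹) (h1 _ (mul_mem (inv_mem hβ) hγ))
      simp only [conjugate_commutatorElement, mul_one, mul_inv_cancel] at this
      rwa [show β * (β⁻¹ * γ * u * (β⁻¹ * γ)⁻¹) * β⁻¹ = γ * u * γ⁻¹ by group] at this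
    · rintro b hb _ ⟨β, hβ, rfl⟩
      exact subset_closure ⟨b * β, mul_mem hb hβ, by group⟩
  have hv := cj_mem (nX hβ) hu
  exact ⟨u, hu, _, hv, u3, by rw [conj_mul, u3, conj_of_mc (g.le hβ)], ((mem_zp g.sq).1
    ((g.EE_le h).1 (commutator_mem_commutator hv.1 hu.1))).resolve_left h1⟩

theorem Good.step4 (g : Good p N B t) (h : Hyp p N G) : ∃ D ≤ B, N ≤ Nat.card D * p * p ∧
    ∃ u ∈ EE B t ⊓ 𝐂(D), ∃ v ∈ EE B t ⊓ 𝐂(D), ∃ y ∈ EE B t ⊓ 𝐂(D), ∃ a ∈ EE B t ⊓ 𝐂(D),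
      u * u = t ∧ y * y = 1 ∧ a * a = 1 ∧ u ∈ centralizer {y} ∧ a ∈ centralizer {y} ∧
      u * a * u⁻¹ = t * a ∧ v * y * v⁻¹ = t * y := by
  have ex : ∀ D ≤ B, N ≤ Nat.card D * p → ∃ D' ≤ B, (∃ a ∈ B, D' ⊔ zpowers a = B) ∧ ¬ EE B t ⊓ 𝐂(D') ≤ 𝐂(D) :=
    fun D hD hN => by
      by_contra! h1
      exact h.ne_bot' hN (eq_bot_iff.2 fun d hd => g.faith h (hD hd) ((H2.le_of_forall_cocyclic g.ea.1 nE_B
        (g.cop h le_rfl g.E_le) h1).trans (centralizer_le (Set.singleton_subset_iff.2 hd))))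
  obtain ⟨D1, hD1, c1, n1⟩ := ex B le_rfl (g.card.trans (Nat.le_mul_of_pos_right _ hp.out.pos))
  obtain ⟨D2, hD2, c2, n2⟩ := ex D1 hD1 (g.card.trans (card_le g.ea hD1 c1))
  obtain ⟨u1, hu1, v1, hv1, p1, q1, r1⟩ := g.exists_uv h hD1 n1
  obtain ⟨u2, hu2, v2, hv2, p2, q2, r2⟩ := g.exists_uv h hD2 fun e => n2 (e.trans (centralizer_le hD1))
  obtain ⟨d, hd, hd2⟩ := SetLike.not_le_iff_exists.1 fun e : D1 ≤ D2 => n2 (inf_le_right.trans (centralizer_le e))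
  have hdc : d ∈ 𝐂(D2) := centralizer_le hD2 (g.ea.le_cent (hD1 hd))
  have hB : D2 ⊔ zpowers d = B := eq_of_le_of_card_ge (sup_le hD2 (zpowers_le_of_mem (hD1 hd)))
    (card_sup hdc (g.ea.2 d (hD1 hd)) hd2 ▸ card_le g.ea hD2 c2)
  have n21 : D1 ≤ 𝐍(EE B t ⊓ 𝐂(D2)) := hD1.trans
    (H2.le_normalizer_inf nE_B (g.ea.le_cent.trans ((centralizer_le hD2).trans le_normalizer)))
  have cc : EE B t ⊓ 𝐂(D2) ≤ 𝐂(EE B t ⊓ 𝐂(D1)) := by
    rw [← H2.commutator_sup_centralizer n21 (g.cop h hD1 (inf_le_left.trans g.E_le))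
      (Or.inl (H2.isSolvable_of_isMulCommutative (g.ea.mono hD1).1))]
    refine sup_le (commutator_eq_bot_iff_le_centralizer.1 (commutator_commutator_eq_bot_of_rotate ?_
      (comm_bot ((commutator_mono inf_le_left inf_le_left).trans (g.EE_le h).1) (hD1.trans g.le))))
      fun x hx => zp_le_cent (inf_le_left.trans g.E_t) (g.CB_le h ⟨hx.1.1, hB ▸ mem_cent_sup hx.1.2 (mc_of_mem hx.2 hd)⟩)
    rw [commutator_eq_bot_iff_le_centralizer.2 (le_centralizer_iff.1 inf_le_right), commutator_bot_left]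
  have m1 : EE B t ⊓ 𝐂(D1) ≤ EE B t ⊓ 𝐂(D1 ⊓ D2) := inf_le_inf_left _ (centralizer_le inf_le_left)
  have m2 : EE B t ⊓ 𝐂(D2) ≤ EE B t ⊓ 𝐂(D1 ⊓ D2) := inf_le_inf_left _ (centralizer_le inf_le_right)
  have k : ∀ {x y : G}, x ∈ EE B t ⊓ 𝐂(D1) → y ∈ EE B t ⊓ 𝐂(D2) → x * y = y * x := fun hx hy => cc hy _ hx
  have sq : ∀ {x y : G}, x * y = y * x → x * x = t → y * y = t → x * y * (x * y) = 1 := fun {x y} e1 e2 e3 => by
    rw [mul_assoc, ← mul_assoc y, ← e1, mul_assoc x, e3, ← mul_assoc, e2, g.sq]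
  have f : ∀ {x y : G}, x * y = y * x → x * y * x⁻¹ = y := fun e => conj_of_mc (mc.2 e)
  refine ⟨_, inf_le_left.trans hD1, g.card.trans (card_le2 g.ea hD1 hD2 c1 c2), u1, m1 hu1, v1, m1 hv1, u1 * u2,
    mul_mem (m1 hu1) (m2 hu2), v1 * v2, mul_mem (m1 hv1) (m2 hv2), p1, sq (k hu1 hu2) p1 p2, sq (k hv1 hv2) q1 q2,
    mc.2 (by rw [mul_assoc, ← k hu1 hu2]), mc_of_conj ?_, ?_, ?_⟩
  · rw [cj_mul, ← conj_mul (b := v2), f (k hu1 hv2).symm, cj_of_comm r2, ← conj_mul, ← conj_mul, cj_of_comm r1,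
      f (k hv1 hu2), conj_of_mc (g.E_t hv1.1), ← mc.1 (g.E_t hu1.1), mul_assoc, ← mul_assoc t, g.sq, one_mul]
  · rw [← conj_mul, f (k hu1 hv2), cj_of_comm (s := t) (by
      rw [← commutatorElement_inv, r1, inv_eq_of_mul_eq_one_right g.sq]), mul_assoc]
  · rw [← conj_mul, f (k hv1 hu2), cj_of_comm r1, mul_assoc]

theorem four_conj (hp2 : p ≠ 2) {X : Subgroup G} (hX : IsPGroup p X) {b w : G} (t1 : t ≠ 1) (t2 : t * t = 1)
    (b2 : b * b = 1) (hb : b ∈ centralizer {t}) (hw : w ∈ centralizer {t}) (e : w * b * w⁻¹ = t * b)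
    (n1 : t ∈ 𝐍(X)) (n2 : b ∈ 𝐍(X)) (n3 : w ∈ 𝐍(X)) (h : X ⊓ centralizer {b} ≤ centralizer {t}) :
    X ≤ centralizer {t} := by
  refine le_of_four hp2 t2 b2 t1 (fun e1 => t1 (by simpa [e1] using e.symm)) (mc.1 hb).symm
    (fun e1 => t1 (by rw [← e1, conj_of_mc hw, t2] at e; exact e)) hX n1 n2 inf_le_right h fun z hz => ?_
  have h1 := h ⟨cj_mem (inv_mem n3) hz.1, mc.2 (by
    rw [← cj_rev e, conj_mul, conj_mul, mc.1 hz.2])⟩
  simpa [mul_assoc] using mul_mem (mul_mem hw h1) (inv_mem hw)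

theorem Good.inf_le (g : Good p N B t) (h : Hyp p N G) {y v : G} (hy : y ∈ RT t) (y2 : y * y = 1)
    (hv : v ∈ EE B t) (e : v * y * v⁻¹ = t * y) (ht : t ∉ RT y) : RT t ⊓ RT y ≤ zpowers y := fun r hr => by
  have dich : ∀ x ∈ EE B t, ∀ s ∈ RT t, x * s * x⁻¹ = s ∨ x * s * x⁻¹ = t * s := fun x hx s hs =>
    ((mem_zp g.sq).1 (g.ER_le h (commutator_mem_commutator hx hs))).imp
      (fun e => (cj_of_comm e).trans (one_mul s)) cj_of_comm
  have k1 : ∀ x ∈ EE B t, x * y * x⁻¹ = y → x * r * x⁻¹ = r := fun x hx e1 =>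
    (dich x hx r hr.1).resolve_right fun e2 =>
      ht ((mul_mem_cancel_right (mem_inf.1 hr).2).1 (e2 ▸ cj_mem (nRT y (mc_of_conj e1)) hr.2))
  have k2 : ∀ x ∈ EE B t, x * y * x⁻¹ = t * y → x * r * x⁻¹ = v * r * v⁻¹ := fun x hx e1 => by
    conv_rhs => rw [← k1 _ (mul_mem (inv_mem hv) hx) (by rw [cj_mul, e1, cj_rev e])]
    group
  have fin : ∀ s ∈ RT t ⊓ RT y, (∀ x ∈ EE B t, x * s * x⁻¹ = s) → s = 1 := fun s hs e1 => by
    by_contra s1
    obtain ⟨z, hz, -, z1, z2⟩ := exists_invol (X := RT t ⊓ RT y ⊓ 𝐂(B)) ((pRT t).to_le (inf_le_left.trans inf_le_left))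
      fun e2 => s1 (mem_bot.1 (e2 ▸ ⟨hs, g.CE_le h ⟨hs.1, fun x hx => mc.1 (mc_of_conj (e1 x hx))⟩⟩))
    exact ht (((mem_zp g.sq).1 (g.uniq h (RT_le t hz.1.1) hz.2 z2)).resolve_left z1 ▸ hz.1.2)
  rcases dich v hv r hr.1 with e1 | e1
  · exact fin r hr (fun x hx => (dich x hx y hy).elim (k1 x hx) fun e2 => (k2 x hx e2).trans e1) ▸ one_mem _
  · refine eq_inv_of_mul_eq_one_left (fin (r * y) (mul_mem hr ⟨hy, mem_RT y2⟩) fun x hx => ?_) ▸
      inv_mem (mem_zpowers y)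
    rcases dich x hx y hy with e2 | e2
    · rw [← conj_mul, k1 x hx e2, e2]
    · rw [← conj_mul, k2 x hx e2, e1, e2, ← mc.1 (RT_le t hr.1), mul_assoc, ← mul_assoc t, g.sq, one_mul]

theorem Good.step6 {y : G} (g : Good p N B y) (h : Hyp p N G) {D S : Subgroup G} (t2 : t * t = 1) (hD : D ≤ B)
    (hDt : D ≤ centralizer {t}) (hC : RT y ⊓ 𝐂(D) ≤ 𝐂(B)) (hS : S ≤ RT t) (hSy : S ≤ centralizer {y})
    (hSB : S ≤ 𝐍(B)) (ht : t ∈ ⁅S, S⁆) (hR : RT t ⊓ RT y ≤ zpowers y) {x : G} (hx : x ∈ B)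
    (tx : t * x * t⁻¹ = x⁻¹) : x = 1 := by
  have hT : zpowers t ≤ S := zpowers_le_of_mem (commutator_le_self _ ht)
  have nS : S ≤ 𝐍(EE B y) := nE hSB hSy
  have h3 : ∀ e ∈ EE B y, ⁅e, t⁆ ∈ zpowers y → e ∈ centralizer {t} := fun e he e1 => by
    have n : D ≤ 𝐍(EE B y ⊓ H2.relCentralizer (zpowers t) (zpowers y)) :=
      H2.le_normalizer_inf (hD.trans nE_B) (n_rel (hDt.trans (n_zp t)) (hD.trans g.le))
    have m : e ∈ EE B y ⊓ H2.relCentralizer (zpowers t) (zpowers y) := ⟨he, n_zp y (g.E_t he), fun z hz => by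
      rcases (mem_zp t2).1 hz with rfl | rfl
      · rw [commutatorElement_one_right]; exact one_mem _
      · exact e1⟩
    rw [← H2.commutator_sup_centralizer n (g.cop h hD (inf_le_left.trans g.E_le))
      (Or.inl (H2.isSolvable_of_isMulCommutative (g.ea.mono hD).1))] at m
    have k : EE B y ⊓ H2.relCentralizer (zpowers t) (zpowers y) ⊓ 𝐂(D) ≤ centralizer {t} := fun z hz =>
      zpowers_le_of_mem (mc_symm (hSy (hT (mem_zpowers t)))) (g.CB_le h ⟨hz.1.1, hC ⟨g.E_le hz.1.1, hz.2⟩⟩)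
    refine sup_le ?_ k m
    rw [← H70.centralizer_zpowers]
    refine commutator_eq_bot_iff_le_centralizer.1 (commutator_commutator_eq_bot_of_rotate ?_
      (comm_bot ((commutator_comm _ _).trans_le (H2.le_relCentralizer_iff.1 inf_le_right).2) (hD.trans g.le)))
    rw [commutator_comm D, comm_bot le_rfl hDt, commutator_bot_left]
  have h4 : ⁅EE B y ⊓ centralizer {t}, S⁆ ≤ zpowers y := (le_inf ((commutator_mono le_rfl hS).trans
    (le_normalizer_iff_commutator_le_right.1 (inf_le_right.trans (nRT t))))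
    ((commutator_mono (inf_le_left.trans g.E_le) le_rfl).trans
      (H2.commutator_le_of_le_normalizer (hSy.trans (nRT y))))).trans hR
  have h5 : ⁅⁅EE B y, S⁆, EE B y ⊓ centralizer {t}⁆ = ⊥ := commutator_commutator_eq_bot_of_rotate
    (comm_bot ((commutator_comm _ _).trans_le h4) g.E_t)
    (comm_bot ((commutator_mono inf_le_left le_rfl).trans (g.EE_le h).1) hSy)
  have h6 : ⁅zpowers t, EE B y⁆ ≤ EE B y ⊓ centralizer {t} := commutator_le.2 fun s hs e he => by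
    have m : ⁅s, e⁆ ∈ EE B y :=
      le_normalizer_iff_commutator_le_right.1 nS (commutator_mem_commutator (hT hs) he)
    rcases (mem_zp t2).1 hs with rfl | rfl
    · rw [commutatorElement_one_left]; exact one_mem _
    · refine ⟨m, h3 _ m ?_⟩
      have e1 : ⁅⁅s, e⁆, s⁆ = ⁅s, e⁆ * ⁅s, e⁆ := by
        calc ⁅⁅s, e⁆, s⁆ = ⁅s, e⁆ * (s * e * s * e⁻¹ * (s * s)⁻¹) := by
              simp only [commutatorElement_def]; group
          _ = _ := by
            rw [t2, commutatorElement_def, inv_eq_of_mul_eq_one_right t2, inv_one, mul_one]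
      exact e1 ▸ g.sq_mem h m
  have hW := H2.commutator_le_of_le_normalizer nS
  have h7 : ⁅⁅EE B y, S⁆, zpowers t⁆ ≤ zpowers y := (le_inf ((commutator_mono hW hT).trans hW)
    (commutator_eq_bot_iff_le_centralizer.1 (commutator_commutator_eq_bot_of_rotate
      (eq_bot_iff.2 ((commutator_mono h6 le_rfl).trans ((commutator_comm _ _).trans h5).le))
      (comm_bot ((commutator_mono le_rfl hW).trans (g.EE_le h).1) (hT.trans hSy))))).trans (g.Z_le h)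
  have h8 : ⁅⁅EE B y, S⁆, S⁆ ≤ zpowers y := (commutator_mono (le_inf hW fun w hw =>
    h3 w (hW hw) (h7 (commutator_mem_commutator hw (mem_zpowers t)))) le_rfl).trans h4
  have h9 : t ∈ H2.relCentralizer (EE B y) (zpowers y) := H2.le_relCentralizer_iff.2
    ⟨(commutator_le_self _).trans (hSy.trans (n_zp y)), H2.three_subgroups_le (hSy.trans (n_zp y))
      (hSy.trans (n_zp y)) (g.E_t.trans (n_zp y)) (by rwa [commutator_comm S]) h8⟩ ht
  have h10 : x * x ∈ H2.relCentralizer (EE B y) (zpowers y) := by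
    have := mul_mem (cj_mem (n_rel nE_B g.le hx) h9) (inv_mem h9)
    rwa [mul_assoc, mul_assoc, ← mul_assoc t, cj_inv tx, inv_inv] at this
  have h11 := H2.le_centralizer_of_commutator_le (A := zpowers (x * x)) (K := EE B y) (N := zpowers y)
    (g.cop h (zpowers_le_of_mem (mul_mem hx hx)) (zpowers_le_of_mem (mem_RT g.sq)))
    ((commutator_comm _ _).trans_le (H2.le_relCentralizer_iff.1 (zpowers_le_of_mem h10)).2)
    (by rw [H70.centralizer_zpowers]; exact zpowers_le_of_mem (g.le (mul_mem hx hx)))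
  exact eq_of_sq_eq h.odd (g.ea.2 x hx) (one_pow p) ((g.faith h (mul_mem hx hx)
    (H70.le_centralizer_singleton_iff.2 (h11 (mem_zpowers _)))).trans (one_mul 1).symm)

theorem Good.false (g : Good p N B t) (h : Hyp p N G) : False := by
  obtain ⟨D, hD, hN, u, hu, v, hv, y, hy, a, ha, u2, y2, a2, uy, ay, ua, vy⟩ := g.step4 h
  have eD := g.ea.mono hD
  have tD : t ∈ 𝐂(D) := centralizer_le hD g.tC
  have ty := mc_symm (g.E_t hy.1)
  have nP : ∀ {s : G}, s ∈ 𝐂(D) → s ∈ centralizer {y} → s ∈ 𝐍(PD p D ⊓ centralizer {y}) := fun h1 h2 =>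
    n_inf (nPD D h1) (le_normalizer h2)
  obtain ⟨M, hM, nM, m1, m2⟩ := exists_section ((pPD D).to_le inf_le_left) (P := PD p D ⊓ centralizer {y})
    (M := centralizer {t}) fun e => h.not_cent eD (h.ne_bot hN) g.ne g.sq tD (four_conj h.odd (pPD D) g.ne g.sq y2
      (g.E_t hy.1) (g.E_t hv.1) vy (nPD D tD) (nPD D hy.2) (nPD D hv.2) e)
  have pM : IsPGroup p M := (pPD D).to_le (hM.trans inf_le_left)
  obtain ⟨x, hx, x1, xp, tx⟩ := exists_inverted (P := M ⊓ centralizer {a}) (pM.to_le inf_le_left) g.sq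
    (n_inf (nM (nP tD ty)) (le_normalizer (mc_symm (g.E_t ha.1)))) fun e => m1 (four_conj h.odd pM g.ne g.sq a2
      (g.E_t ha.1) (g.E_t hu.1) ua (nM (nP tD ty)) (nM (nP ha.2 ay)) (nM (nP hu.2 uy)) e)
  have hx' : u * x * u⁻¹ ∈ M := cj_mem (nM (nP hu.2 uy)) hx.1
  have xp' : (u * x * u⁻¹) ^ p = 1 := by rw [conj_pow, xp, mul_one, mul_inv_cancel]
  have ax : a * x * a⁻¹ = x := conj_of_mc (mc_symm hx.2)
  have ax' : a * (u * x * u⁻¹) * a⁻¹ = (u * x * u⁻¹)⁻¹ := by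
    have e : a * u = u * (t * a) := by
      rw [← mul_assoc, mc.1 (g.E_t hu.1), mul_assoc, mul_inv_eq_iff_eq_mul.1 ua, mul_assoc, ← mul_assoc, g.sq,
        one_mul]
    rw [← cj_mul, e, cj_mul, cj_mul, ax, tx, cj_inv rfl]
  have xD : ∀ {z : G}, z ∈ M → z ∈ 𝐂(D) := fun hz => PD_le D (hM hz).1
  obtain ⟨e1, e2⟩ := two h.odd eD (xD hx.1) (xD hx') xp xp' x1 (cj_ne x1) (comm_of_fix h.odd hx.1 hx' xp'
    (fun z hz => mc_symm (h.comm (g.E_le ha.1) ha.2 (hM (commutator_le_self _ hz)).1 (m2 hz))) ax ax') tD ha.2 tx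
    ax ax'
  have y1 : y ≠ 1 := fun e => g.ne (by simpa [e] using vy.symm)
  have g' : Good p N (D ⊔ zpowers x ⊔ zpowers (u * x * u⁻¹)) y := ⟨e1, y1, y2, sup_le (sup_le
    (H70.le_centralizer_singleton_iff.2 hy.2) (zpowers_le_of_mem (hM hx.1).2)) (zpowers_le_of_mem (hM hx').2),
    e2 ▸ hN⟩
  have b1 : x ∈ D ⊔ zpowers x ⊔ zpowers (u * x * u⁻¹) := mem_sup_left (mem_sup_right (mem_zpowers x))
  have b2 : u * x * u⁻¹ ∈ D ⊔ zpowers x ⊔ zpowers (u * x * u⁻¹) := mem_sup_right (mem_zpowers _)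
  have nB : ∀ {s : G} {K : Subgroup G}, K = D ⊔ zpowers x ⊔ zpowers (u * x * u⁻¹) → s ∈ 𝐂(D) →
      s * x * s⁻¹ ∈ K → s * (u * x * u⁻¹) * s⁻¹ ∈ K → s ∈ 𝐍(K) := fun {s K} e h1 h2 h3 =>
    mem_normalizer_fintype fun n hn => (e.trans_le (sup_le (sup_le (fun d hd => by
      rw [mem_comap, MulEquiv.coe_toMonoidHom, MulAut.conj_apply, conj_of_mc (mc_of_mem h1 hd), e]
      exact mem_sup_left (mem_sup_left hd)) (zpowers_le_of_mem h2)) (zpowers_le_of_mem h3)) :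
        K ≤ K.comap (MulAut.conj s).toMonoidHom) hn
  have tR : t ∉ RT y := fun e => by
    have := mul_mem (cj_mem (nRT y (hM hx.1).2) e) (inv_mem e)
    rw [mul_assoc, mul_assoc, ← mul_assoc t, cj_inv tx, inv_inv] at this
    exact x1 (eq_of_sq_eq h.odd xp (one_pow p) ((eq_one_of_mem h.odd pM (pRT y) (mul_mem hx.1 hx.1) this).trans
      (one_mul 1).symm))
  refine x1 (g'.step6 h (D := D) (S := zpowers u ⊔ zpowers a) g.sq (le_sup_left.trans le_sup_left) (hD.trans g.le)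
    (fun s hs => mem_cent_sup (mem_cent_sup hs.2 (h.comm hs.1 hs.2 (hM hx.1).1 (hM hx.1).2))
      (h.comm hs.1 hs.2 (hM hx').1 (hM hx').2))
    (sup_le (zpowers_le_of_mem (g.E_le hu.1)) (zpowers_le_of_mem (g.E_le ha.1)))
    (sup_le (zpowers_le_of_mem uy) (zpowers_le_of_mem ay))
    (sup_le (zpowers_le_of_mem (nB rfl hu.2 b2 (by rw [← cj_mul, u2, tx]; exact inv_mem b1)))
      (zpowers_le_of_mem (nB rfl ha.2 (ax.symm ▸ b1) (ax'.symm ▸ inv_mem b2)))) ?_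
    (g.inf_le h (g.E_le hy.1) y2 hv.1 vy tR) b1 tx)
  have := commutator_mem_commutator (mem_sup_left (mem_zpowers u) : u ∈ zpowers u ⊔ zpowers a)
    (mem_sup_right (mem_zpowers a) : a ∈ zpowers u ⊔ zpowers a)
  rwa [commutatorElement_def, ua, mul_inv_cancel_right] at this

theorem klinger_mason (hp2 : p ≠ 2) (hGp : IsOfLocalCharacteristic p G) (hG2 : IsCharacteristicTwoType G) :
    TwoLocalPRankLE p 2 G := by
  rintro _ ⟨T, hT, hT1, rfl⟩ A hA hAp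
  by_contra! hn
  obtain ⟨B, ⟨eB, T', hT', hT1', hBT⟩, hmax⟩ := Set.exists_max_image
    {B : Subgroup G | EA p B ∧ ∃ T : Subgroup G, IsPGroup 2 T ∧ T ≠ ⊥ ∧ B ≤ 𝐍(T)} (fun B => Nat.card B)
    (Set.toFinite _) ⟨⊥, ⟨inferInstance, fun b hb => by rw [mem_bot.1 hb, one_pow]⟩, T, hT, hT1, bot_le⟩
  have zp1 : ∀ t : G, t ≠ 1 → zpowers t ≠ ⊥ := fun t h e => h (zpowers_eq_bot.1 e)
  have h : Hyp p (Nat.card B) G := by
    refine ⟨hp2, fun D hD h1 => (H70.charP_iff.2 (hGp.2 D hD h1)).of_normal (centralizer_le_normalizer _)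
      (H70.normalizer_le_normalizer_centralizer D), fun t t1 t2 => ?_, fun t t1 t2 B' e1 e2 =>
      hmax B' ⟨e1, _, isPGroup_zp t2, zp1 t t1, e2.trans (n_zp t)⟩, ?_⟩
    · rw [← H70.centralizer_zpowers]
      exact (H70.charP_iff.2 (hG2.2 _ (isPGroup_zp t2) (zp1 t t1))).of_normal (centralizer_le_normalizer _)
        (H70.normalizer_le_normalizer_centralizer _)
    · have := hmax (A.map (Subgroup.subtype _)) ⟨⟨inferInstance, by
        rintro _ ⟨b, hb, rfl⟩; rw [← map_pow, hAp b hb, map_one]⟩, T, hT, hT1, map_subtype_le _⟩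
      rw [card_map_of_injective (subtype_injective _)] at this
      exact (pow_two p ▸ hn).trans_le this
  obtain ⟨B', t, g⟩ := h.step0 eB le_rfl hT' hT1' hBT
  exact g.false h

end H71KM
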